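import Mathlib

set_option autoImplicit false
set_option linter.style.haveILetI false

/-!
# Krull–Akizuki

`R` is a Noetherian domain of dimension at most one with fraction field `K`.
-/

namespace Groth.Agent.KrullAkizuki

universe u v w

section Length

variable {R : Type u} [CommRing R]

/-- A module all of whose finitely generated submodules have length at most `n` has length
at most `n`. -/
theorem length_le_of_fg {Q : Type v} [AddCommGroup Q] [Module R Q] (n : ℕ∞)
    (h : ∀ N : Submodule R Q, N.FG → Module.length R N ≤ n) : Module.length R Q ≤ n := by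
  classical
  induction n using ENat.recTopCoe with
  | top => exact le_top
  | coe n =>
    let S : Set ℕ := {k | ∃ N : Submodule R Q, N.FG ∧ Module.length R N = (k : ℕ∞)}
    have hfin : ∀ N : Submodule R Q, N.FG → ∃ k : ℕ, Module.length R N = (k : ℕ∞) ∧ k ≤ n := by
      intro N hN
      obtain ⟨k, hk, hkn⟩ := ENat.le_coe_iff.mp (h N hN)
      exact ⟨k, hk, hkn⟩
    obtain ⟨k₀, hk₀, -⟩ := hfin ⊥ Submodule.fg_bot
    have hne : S.Nonempty := ⟨k₀, ⊥, Submodule.fg_bot, hk₀⟩
    have hbdd : BddAbove S := ⟨n, fun k ⟨N, hN, hk⟩ => by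
      obtain ⟨k', hk', hk'n⟩ := hfin N hN
      rw [hk] at hk'
      exact (ENat.coe_inj.mp hk') ▸ hk'n⟩
    obtain ⟨N, hN, hNmax⟩ := Nat.sSup_mem hne hbdd
    suffices htop : N = ⊤ by
      have := h N hN
      rwa [htop, Module.length_top] at this
    refine eq_top_iff.mpr fun q _ => ?_
    have hfg : (N ⊔ Submodule.span R {q}).FG := hN.sup (Submodule.fg_span_singleton q)
    obtain ⟨k, hk, hkn⟩ := hfin _ hfg
    by_contra hq
    have hlt : N < N ⊔ Submodule.span R {q} :=
      lt_of_le_of_ne le_sup_left fun e => hq (by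
        rw [e]; exact Submodule.mem_sup_right (Submodule.mem_span_singleton_self q))
    have h2 : Module.length R (N ⊔ Submodule.span R {q} : Submodule R Q) ≠ ⊤ := by
      rw [hk]; exact ENat.coe_ne_top k
    have hlt' : Order.height N < Order.height (N ⊔ Submodule.span R {q}) := by
      refine Order.height_strictMono hlt ?_
      rw [← Module.length_submodule, hNmax]
      exact ENat.coe_lt_top _
    rw [← Module.length_submodule, ← Module.length_submodule, hNmax, hk] at hlt'
    have := le_csSup hbdd ⟨_, hfg, hk⟩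
    exact absurd (ENat.coe_lt_coe.mp hlt') (not_lt.mpr this)

/-- Subadditivity of length at a middle-exact pair of maps with the second surjective. -/
theorem length_le_add {N M P : Type*} [AddCommGroup N] [AddCommGroup M] [AddCommGroup P]
    [Module R N] [Module R M] [Module R P] (f : N →ₗ[R] M) (g : M →ₗ[R] P)
    (hg : Function.Surjective g) (H : Function.Exact f g) :
    Module.length R M ≤ Module.length R N + Module.length R P := by
  rw [Module.length_eq_add_of_exact (LinearMap.ker g).subtype g (Submodule.subtype_injective _) hg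
    (LinearMap.exact_subtype_ker_map g), LinearMap.exact_iff.mp H]
  exact add_le_add_left (Module.length_le_of_surjective f.rangeRestrict f.surjective_rangeRestrict) _

theorem mem_span_smul_top {M : Type*} [AddCommGroup M] [Module R M] (x : R) (m : M) :
    m ∈ Ideal.span ({x} : Set R) • (⊤ : Submodule R M) ↔ ∃ m', x • m' = m := by
  rw [Submodule.ideal_span_singleton_smul, Submodule.mem_smul_pointwise_iff_exists]
  simp

variable [IsDomain R] [IsNoetherianRing R]

theorem isArtinianRing_quotient [Ring.KrullDimLE 1 R] (J : Ideal R) (hJ : J ≠ ⊥) :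
    IsArtinianRing (R ⧸ J) := by
  have h0 : Ring.KrullDimLE 0 (R ⧸ J) := Ring.KrullDimLE.mk₀ fun P hP => by
    have hc : (P.comap (Ideal.Quotient.mk J)).IsPrime := Ideal.comap_isPrime _ P
    have hne : P.comap (Ideal.Quotient.mk J) ≠ ⊥ := fun h => hJ (le_bot_iff.mp (by
      rw [← h]; intro a ha; simp [Ideal.mem_comap, Ideal.Quotient.eq_zero_iff_mem.mpr ha]))
    have hmax := Ring.krullDimLE_one_iff_of_isPrime_bot.mp ‹_› _ hne hc
    exact Ideal.map_comap_of_surjective _ Ideal.Quotient.mk_surjective P ▸
      (Ideal.map_eq_top_or_isMaximal_of_surjective _ Ideal.Quotient.mk_surjective hmax).resolve_left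
        (by rw [Ideal.map_comap_of_surjective _ Ideal.Quotient.mk_surjective]; exact hP.ne_top)
  exact isArtinianRing_iff_krullDimLE_zero.mpr h0

theorem length_quotient_ne_top [Ring.KrullDimLE 1 R] (J : Ideal R) (hJ : J ≠ ⊥) :
    Module.length R (R ⧸ J) ≠ ⊤ := by
  have := isArtinianRing_quotient J hJ
  rw [Module.length_eq_of_surjective (R := R ⧸ J) Ideal.Quotient.mk_surjective]
  exact Module.length_ne_top

/-- For a nonzero ideal `I`, the length of `I / xI` is that of `R / xR`. -/
theorem length_quotient_ideal [Ring.KrullDimLE 1 R] (I : Ideal R) (hI : I ≠ ⊥) (x : R) (hx : x ≠ 0) :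
    Module.length R (I ⧸ (Ideal.span ({x} : Set R) • (⊤ : Submodule R I))) =
      Module.length R (R ⧸ Ideal.span ({x} : Set R)) := by
  set J : Ideal R := Ideal.span {x} * I with hJ
  have hJmem : ∀ r : R, r ∈ J ↔ ∃ i ∈ I, x * i = r := fun r => by
    rw [hJ, Ideal.mem_span_singleton_mul]
  have hJI : J ≤ I := Ideal.mul_le_right
  have hJx : J ≤ Ideal.span {x} := Ideal.mul_le_left
  have hcomap : Ideal.span ({x} : Set R) • (⊤ : Submodule R I) = Submodule.comap I.subtype J := by
    ext i
    rw [mem_span_smul_top, Submodule.mem_comap, hJmem]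
    constructor
    · rintro ⟨m, rfl⟩; exact ⟨m, m.2, rfl⟩
    · rintro ⟨a, ha, hax⟩; exact ⟨⟨a, ha⟩, Subtype.ext hax⟩
  let f₁ : (I ⧸ (Ideal.span ({x} : Set R) • (⊤ : Submodule R I))) →ₗ[R] R ⧸ J :=
    Submodule.mapQ _ _ I.subtype hcomap.le
  let g₁ : (R ⧸ J) →ₗ[R] R ⧸ I := Submodule.factor hJI
  have hf₁ : Function.Injective f₁ := by
    rw [← LinearMap.ker_eq_bot, Submodule.ker_mapQ, ← hcomap, Submodule.mkQ_map_self]
  have hg₁ : Function.Surjective g₁ := Submodule.factor_surjective hJI
  have he₁ : Function.Exact f₁ g₁ := by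
    intro q
    obtain ⟨r, rfl⟩ := Submodule.Quotient.mk_surjective _ q
    constructor
    · intro hr
      exact ⟨Submodule.Quotient.mk ⟨r, (Submodule.Quotient.mk_eq_zero I).mp hr⟩, rfl⟩
    · rintro ⟨m, hm⟩
      obtain ⟨i, rfl⟩ := Submodule.Quotient.mk_surjective _ m
      rw [← hm]
      exact (Submodule.Quotient.mk_eq_zero I).mpr i.2
  let f₂ : (R ⧸ I) →ₗ[R] R ⧸ J := Submodule.mapQ _ _ (LinearMap.mulLeft R x) (fun i hi =>
    Submodule.mem_comap.mpr ((hJmem _).mpr ⟨i, hi, rfl⟩))
  let g₂ : (R ⧸ J) →ₗ[R] R ⧸ Ideal.span {x} := Submodule.factor hJx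
  have hf₂ : Function.Injective f₂ := by
    rw [injective_iff_map_eq_zero]
    intro q hq
    obtain ⟨r, rfl⟩ := Submodule.Quotient.mk_surjective _ q
    obtain ⟨i, hi, hxi⟩ := (hJmem (x * r)).mp ((Submodule.Quotient.mk_eq_zero J).mp hq)
    exact (Submodule.Quotient.mk_eq_zero I).mpr (mul_left_cancel₀ hx hxi ▸ hi)
  have hg₂ : Function.Surjective g₂ := Submodule.factor_surjective hJx
  have he₂ : Function.Exact f₂ g₂ := by
    intro q
    obtain ⟨r, rfl⟩ := Submodule.Quotient.mk_surjective _ q
    constructor
    · intro hr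
      obtain ⟨a, rfl⟩ := Ideal.mem_span_singleton'.mp
        ((Submodule.Quotient.mk_eq_zero (Ideal.span ({x} : Set R))).mp hr)
      exact ⟨Submodule.Quotient.mk a, congrArg Submodule.Quotient.mk (mul_comm x a)⟩
    · rintro ⟨m, hm⟩
      obtain ⟨i, rfl⟩ := Submodule.Quotient.mk_surjective _ m
      rw [← hm]
      exact (Submodule.Quotient.mk_eq_zero _).mpr (Ideal.mem_span_singleton'.mpr ⟨i, mul_comm i x⟩)
  have h₁ := Module.length_eq_add_of_exact f₁ g₁ hf₁ hg₁ he₁
  have h₂ := Module.length_eq_add_of_exact f₂ g₂ hf₂ hg₂ he₂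
  exact ENat.add_left_injective_of_ne_top (length_quotient_ne_top I hI)
    ((h₁.symm.trans h₂).trans (add_comm _ _))

variable {K : Type w} [Field K] [Algebra R K] [IsFractionRing R K]

/-- `length (M / xM) ≤ length (R / xR)` for a finitely generated submodule `M` of `K`. -/
theorem length_quotient_le_of_fg_line [Ring.KrullDimLE 1 R] (N : Submodule R K) (hN : N.FG)
    (x : R) (hx : x ≠ 0) :
    Module.length R (N ⧸ (Ideal.span ({x} : Set R) • (⊤ : Submodule R N))) ≤
      Module.length R (R ⧸ Ideal.span ({x} : Set R)) := by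
  classical
  obtain ⟨s, rfl⟩ := hN
  obtain ⟨d, hd⟩ := IsLocalization.exist_integer_multiples_of_finset (nonZeroDivisors R) s
  have hinj : Function.Injective (algebraMap R K) := IsFractionRing.injective R K
  have hd0 : algebraMap R K (d : R) ≠ 0 :=
    IsLocalization.to_map_ne_zero_of_mem_nonZeroDivisors K le_rfl d.2
  set N := Submodule.span R (s : Set K) with hNdef
  let m : N →ₗ[R] K := (LinearMap.mulLeft R (algebraMap R K (d : R))).comp N.subtype
  have hm : Function.Injective m := fun a b h => Subtype.ext (mul_left_cancel₀ hd0 h)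
  have hrange : LinearMap.range m ≤ LinearMap.range (Algebra.linearMap R K) := by
    rw [LinearMap.range_comp, Submodule.range_subtype, hNdef, Submodule.map_span_le]
    intro a ha
    obtain ⟨r, hr⟩ := hd a ha
    exact ⟨r, by rw [Algebra.linearMap_apply, hr]; exact Algebra.smul_def _ _⟩
  let I : Ideal R := Submodule.comap (Algebra.linearMap R K) (LinearMap.range m)
  let e₁ : I ≃ₗ[R] LinearMap.range m :=
    LinearEquiv.ofBijective
      (((Algebra.linearMap R K).comp I.subtype).codRestrict (LinearMap.range m) fun i => i.2)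
      ⟨fun a b h => Subtype.ext (hinj (congrArg Subtype.val h)), fun b => by
        obtain ⟨r, hr⟩ := hrange b.2
        exact ⟨⟨r, show Algebra.linearMap R K r ∈ LinearMap.range m by rw [hr]; exact b.2⟩,
          Subtype.ext hr⟩⟩
  let e : N ≃ₗ[R] I := (LinearEquiv.ofInjective m hm).trans e₁.symm
  rw [(Submodule.Quotient.equiv (Ideal.span ({x} : Set R) • (⊤ : Submodule R N))
      (Ideal.span ({x} : Set R) • (⊤ : Submodule R I)) e (by
        rw [Submodule.map_smul'', Submodule.map_top, LinearEquiv.range])).length_eq]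
  by_cases hI : I = ⊥
  · haveI : Subsingleton I := by rw [hI]; infer_instance
    rw [Module.length_eq_zero]
    exact zero_le
  · exact (length_quotient_ideal I hI x hx).le

set_option maxHeartbeats 400000 in
/-- `length (M / xM) ≤ length (R / xR)` for any submodule `M` of `K`. -/
theorem length_quotient_le_line [Ring.KrullDimLE 1 R] (M : Submodule R K) (x : R) (hx : x ≠ 0) :
    Module.length R (M ⧸ (Ideal.span ({x} : Set R) • (⊤ : Submodule R M))) ≤
      Module.length R (R ⧸ Ideal.span ({x} : Set R)) := by
  classical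
  refine length_le_of_fg _ fun Q hQ => ?_
  obtain ⟨s, rfl⟩ := hQ
  choose l hl using fun q : M ⧸ (Ideal.span ({x} : Set R) • (⊤ : Submodule R M)) =>
    Submodule.Quotient.mk_surjective _ q
  let N : Submodule R K := Submodule.span R ((fun q => (l q : K)) '' (s : Set _))
  have hNM : N ≤ M := Submodule.span_le.mpr (by rintro _ ⟨q, -, rfl⟩; exact (l q).2)
  let φ : N →ₗ[R] M := Submodule.inclusion hNM
  let ψ := Submodule.mapQ (Ideal.span ({x} : Set R) • (⊤ : Submodule R N))
    (Ideal.span ({x} : Set R) • (⊤ : Submodule R M)) φ (by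
      rw [← Submodule.map_le_iff_le_comap, Submodule.map_smul'']
      exact Submodule.smul_mono le_rfl le_top)
  have hle : Submodule.span R (s : Set _) ≤ LinearMap.range ψ := by
    refine Submodule.span_le.mpr fun q hq => ?_
    exact ⟨Submodule.Quotient.mk ⟨(l q : K), Submodule.subset_span ⟨q, hq, rfl⟩⟩, hl q⟩
  refine le_trans (Module.length_le_of_injective (Submodule.inclusion hle)
    (Submodule.inclusion_injective _)) ?_
  refine le_trans (Module.length_le_of_surjective ψ.rangeRestrict ψ.surjective_rangeRestrict) ?_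
  exact length_quotient_le_of_fg_line N (Submodule.fg_span ((s.finite_toSet).image _)) x hx

/-- Krull–Akizuki: a module embedded in `K ^ r` satisfies
`length (M / xM) ≤ r * length (R / xR)`. -/
theorem length_quotient_le [Ring.KrullDimLE 1 R] : ∀ (r : ℕ) {M : Type v} [AddCommGroup M]
    [Module R M] (j : M →ₗ[R] (Fin r → K)) (_ : Function.Injective j) (x : R) (_ : x ≠ 0),
    Module.length R (M ⧸ (Ideal.span ({x} : Set R) • (⊤ : Submodule R M))) ≤
      r * Module.length R (R ⧸ Ideal.span ({x} : Set R)) := by
  intro r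
  induction r with
  | zero =>
    intro M _ _ j hj x hx
    haveI : Subsingleton M := hj.subsingleton
    rw [Module.length_eq_zero]
    exact zero_le
  | succ r ih =>
    intro M _ _ j hj x hx
    let g : M →ₗ[R] K := (LinearMap.proj (Fin.last r)).comp j
    let j' : LinearMap.ker g →ₗ[R] (Fin r → K) :=
      (LinearMap.funLeft R K Fin.castSucc).comp (j.comp (LinearMap.ker g).subtype)
    have hj' : Function.Injective j' := by
      intro a b h
      refine Subtype.ext (hj (funext fun i => ?_))
      refine Fin.lastCases ?_ (fun i => ?_) i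
      · exact (LinearMap.mem_ker.mp a.2).trans (LinearMap.mem_ker.mp b.2).symm
      · exact congrFun h i
    let X : Ideal R := Ideal.span {x}
    let f₁ := Submodule.mapQ (X • (⊤ : Submodule R (LinearMap.ker g))) (X • (⊤ : Submodule R M))
      (LinearMap.ker g).subtype (by
        rw [← Submodule.map_le_iff_le_comap, Submodule.map_smul'']
        exact Submodule.smul_mono le_rfl le_top)
    let g₁ := Submodule.mapQ (X • (⊤ : Submodule R M)) (X • (⊤ : Submodule R (LinearMap.range g)))
      g.rangeRestrict (by
        rw [← Submodule.map_le_iff_le_comap, Submodule.map_smul'']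
        exact Submodule.smul_mono le_rfl le_top)
    have hg₁ : Function.Surjective g₁ := by
      intro q
      obtain ⟨b, rfl⟩ := Submodule.Quotient.mk_surjective _ q
      obtain ⟨a, rfl⟩ := g.surjective_rangeRestrict b
      exact ⟨Submodule.Quotient.mk a, rfl⟩
    have he : Function.Exact f₁ g₁ := by
      intro q
      obtain ⟨a, rfl⟩ := Submodule.Quotient.mk_surjective _ q
      constructor
      · intro ha
        obtain ⟨b, hb⟩ := (mem_span_smul_top x (g.rangeRestrict a)).mp
          ((Submodule.Quotient.mk_eq_zero _).mp ha)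
        obtain ⟨c, rfl⟩ := g.surjective_rangeRestrict b
        have hk : a - x • c ∈ LinearMap.ker g := by
          rw [LinearMap.mem_ker, map_sub, map_smul, sub_eq_zero]
          exact (congrArg Subtype.val hb).symm
        refine ⟨Submodule.Quotient.mk ⟨a - x • c, hk⟩, ?_⟩
        refine (Submodule.Quotient.eq _).mpr ?_
        show (a - x • c) - a ∈ X • (⊤ : Submodule R M)
        rw [sub_sub_cancel_left]
        exact neg_mem ((mem_span_smul_top x _).mpr ⟨c, rfl⟩)
      · rintro ⟨m, hm⟩
        obtain ⟨i, rfl⟩ := Submodule.Quotient.mk_surjective _ m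
        rw [← hm]
        have hzero : g.rangeRestrict (i : M) = 0 := Subtype.ext (LinearMap.mem_ker.mp i.2)
        show Submodule.Quotient.mk (g.rangeRestrict (i : M)) = 0
        rw [hzero, Submodule.Quotient.mk_zero]
    refine le_trans (length_le_add f₁ g₁ hg₁ he) ?_
    refine le_trans (add_le_add (ih j' hj' x hx) (length_quotient_le_line _ x hx)) (le_of_eq ?_)
    rw [Nat.cast_succ, add_mul, one_mul]

theorem length_quotient_ne_top_of_injective [Ring.KrullDimLE 1 R] (r : ℕ) {M : Type v}
    [AddCommGroup M] [Module R M] (j : M →ₗ[R] (Fin r → K)) (hj : Function.Injective j)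
    (x : R) (hx : x ≠ 0) :
    Module.length R (M ⧸ (Ideal.span ({x} : Set R) • (⊤ : Submodule R M))) ≠ ⊤ := by
  refine ne_top_of_le_ne_top ?_ (length_quotient_le r j hj x hx)
  have h := length_quotient_ne_top (Ideal.span ({x} : Set R)) (by simpa using hx)
  exact WithTop.mul_ne_top (ENat.coe_ne_top r) h

end Length

section Overring

variable {R : Type u} [CommRing R] [IsDomain R] [IsNoetherianRing R] [Ring.KrullDimLE 1 R]
variable {K : Type w} [Field K] [Algebra R K] [IsFractionRing R K]
variable {A : Type v} [CommRing A] [Algebra R A]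

omit [IsDomain R] [IsNoetherianRing R] [Ring.KrullDimLE 1 R] in
theorem span_smul_top_eq (x : R) :
    Ideal.span ({x} : Set R) • (⊤ : Submodule R A) =
      (Ideal.span ({algebraMap R A x} : Set A)).restrictScalars R := by
  ext a
  rw [mem_span_smul_top, Submodule.restrictScalars_mem, Ideal.mem_span_singleton']
  simp only [Algebra.smul_def, mul_comm]

theorem isNoetherian_quotient_span {r : ℕ} (j : A →ₗ[R] (Fin r → K)) (hj : Function.Injective j)
    (x : R) (hx : x ≠ 0) :
    IsNoetherian R (A ⧸ Ideal.span ({algebraMap R A x} : Set A)) ∧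
      IsArtinian R (A ⧸ Ideal.span ({algebraMap R A x} : Set A)) := by
  have h := isFiniteLength_iff_isNoetherian_isArtinian.mp
    (Module.length_ne_top_iff.mp (length_quotient_ne_top_of_injective r j hj x hx))
  have e := (Submodule.quotEquivOfEq _ _ (span_smul_top_eq (A := A) x)).trans
    (Submodule.Quotient.restrictScalarsEquiv R _)
  haveI := h.1
  haveI := h.2
  exact ⟨isNoetherian_of_linearEquiv e, isArtinian_of_linearEquiv e⟩

omit [IsNoetherianRing R] [Ring.KrullDimLE 1 R] in
theorem isAlgebraic_of_injective {r : ℕ} (j : A →ₗ[R] (Fin r → K)) (hj : Function.Injective j)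
    (a : A) : IsAlgebraic R a := by
  by_contra hna
  have hinj : LinearMap.ker (Polynomial.aeval (R := R) a).toLinearMap = ⊥ :=
    LinearMap.ker_eq_bot.mpr (transcendental_iff_injective.mp hna)
  have h1 : LinearIndependent R (fun i : ℕ => a ^ i) := by
    have := (Polynomial.basisMonomials R).linearIndependent.map' _ hinj
    simpa [Function.comp_def] using this
  have h2 : LinearIndependent R (fun i : Fin (r + 1) => j (a ^ (i : ℕ))) :=
    (h1.comp (fun i : Fin (r + 1) => (i : ℕ)) Fin.val_injective).map' j
      (LinearMap.ker_eq_bot.mpr hj)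
  rw [LinearIndependent.iff_fractionRing (R := R) (K := K)] at h2
  have := h2.fintype_card_le_finrank
  simp at this

variable [IsDomain A]

omit [IsNoetherianRing R] [Ring.KrullDimLE 1 R] in
theorem exists_ne_zero_algebraMap_mem {r : ℕ} (j : A →ₗ[R] (Fin r → K))
    (hj : Function.Injective j) {J : Ideal A} (hJ : J ≠ ⊥) :
    ∃ x : R, x ≠ 0 ∧ algebraMap R A x ∈ J := by
  obtain ⟨a, haJ, ha⟩ := Submodule.exists_mem_ne_zero_of_ne_bot hJ
  obtain ⟨x, hxJ, hx⟩ := Submodule.exists_mem_ne_zero_of_ne_bot
    (Ideal.comap_ne_bot_of_algebraic_mem (R := R) ha haJ (isAlgebraic_of_injective j hj a))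
  exact ⟨x, hx, hxJ⟩

/-- Krull–Akizuki: a domain `A` over `R` embedded in a finite-dimensional `K`-space is Noetherian. -/
theorem isNoetherianRing_of_injective {r : ℕ} (j : A →ₗ[R] (Fin r → K))
    (hj : Function.Injective j) : IsNoetherianRing A := by
  refine isNoetherianRing_iff_ideal_fg A |>.mpr fun J => ?_
  rcases eq_or_ne J ⊥ with rfl | hJ
  · exact Submodule.fg_bot
  obtain ⟨x, hx, hxJ⟩ := exists_ne_zero_algebraMap_mem j hj hJ
  haveI := (isNoetherian_quotient_span j hj x hx).1
  haveI : IsNoetherianRing (A ⧸ Ideal.span ({algebraMap R A x} : Set A)) :=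
    isNoetherian_of_tower R inferInstance
  refine Ideal.fg_of_fg_map_of_fg_inf_ker_of_surjective
    (f := Ideal.Quotient.mk (Ideal.span ({algebraMap R A x} : Set A))) (hf := Ideal.Quotient.mk_surjective)
    (IsNoetherian.noetherian _) ?_
  rw [Ideal.mk_ker, inf_eq_right.mpr ((Ideal.span_singleton_le_iff_mem J).mpr hxJ)]
  exact Submodule.fg_span_singleton _

/-- Nonzero primes of such a domain are maximal. -/
theorem isMaximal_of_injective {r : ℕ} (j : A →ₗ[R] (Fin r → K)) (hj : Function.Injective j)
    (P : Ideal A) [P.IsPrime] (hP : P ≠ ⊥) : P.IsMaximal := by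
  obtain ⟨x, hx, hxP⟩ := exists_ne_zero_algebraMap_mem j hj hP
  haveI := (isNoetherian_quotient_span j hj x hx).2
  haveI : IsArtinianRing (A ⧸ Ideal.span ({algebraMap R A x} : Set A)) :=
    isArtinian_of_tower R inferInstance
  have hle : Ideal.span ({algebraMap R A x} : Set A) ≤ P := (Ideal.span_singleton_le_iff_mem P).mpr hxP
  have hker : RingHom.ker (Ideal.Quotient.mk (Ideal.span ({algebraMap R A x} : Set A))) ≤ P := by
    rw [Ideal.mk_ker]; exact hle
  haveI := Ideal.map_isPrime_of_surjective Ideal.Quotient.mk_surjective hker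
  haveI hm : (P.map (Ideal.Quotient.mk (Ideal.span ({algebraMap R A x} : Set A)))).IsMaximal :=
    inferInstance
  have := Ideal.comap_isMaximal_of_surjective _ Ideal.Quotient.mk_surjective (H := hm)
  rwa [Ideal.comap_map_of_surjective' _ Ideal.Quotient.mk_surjective, sup_eq_left.mpr hker] at this

theorem dimensionLEOne_of_injective {r : ℕ} (j : A →ₗ[R] (Fin r → K)) (hj : Function.Injective j) :
    Ring.DimensionLEOne A :=
  ⟨fun {p} hp hprime => haveI := hprime; isMaximal_of_injective j hj p hp⟩

/-- Only finitely many primes contain a given nonzero element of `R`. -/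
theorem finite_primes_containing {r : ℕ} (j : A →ₗ[R] (Fin r → K)) (hj : Function.Injective j)
    (x : R) (hx : x ≠ 0) : {P : Ideal A | P.IsPrime ∧ algebraMap R A x ∈ P}.Finite := by
  haveI := (isNoetherian_quotient_span j hj x hx).2
  haveI : IsArtinianRing (A ⧸ Ideal.span ({algebraMap R A x} : Set A)) :=
    isArtinian_of_tower R inferInstance
  have hfin : Finite {q : Ideal (A ⧸ Ideal.span ({algebraMap R A x} : Set A)) | q.IsPrime} :=
    Finite.of_equiv _ (PrimeSpectrum.equivSubtype _).toEquiv
  refine ((Set.toFinite {q : Ideal (A ⧸ Ideal.span ({algebraMap R A x} : Set A)) | q.IsPrime}).image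
    (Ideal.comap (Ideal.Quotient.mk _))).subset ?_
  rintro P ⟨hP, hxP⟩
  haveI := hP
  have hker : RingHom.ker (Ideal.Quotient.mk (Ideal.span ({algebraMap R A x} : Set A))) ≤ P := by
    rw [Ideal.mk_ker]; exact (Ideal.span_singleton_le_iff_mem P).mpr hxP
  exact ⟨P.map (Ideal.Quotient.mk _), Ideal.map_isPrime_of_surjective Ideal.Quotient.mk_surjective hker,
    by rw [Ideal.comap_map_of_surjective' _ Ideal.Quotient.mk_surjective, sup_eq_left.mpr hker]⟩

/-- The residue ring at a nonzero prime is module-finite over `R`. -/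
theorem finite_quotient_of_injective {r : ℕ} (j : A →ₗ[R] (Fin r → K)) (hj : Function.Injective j)
    (P : Ideal A) (hP : P ≠ ⊥) : Module.Finite R (A ⧸ P) := by
  obtain ⟨x, hx, hxP⟩ := exists_ne_zero_algebraMap_mem j hj hP
  haveI := (isNoetherian_quotient_span j hj x hx).1
  have hle : Ideal.span ({algebraMap R A x} : Set A) ≤ P := (Ideal.span_singleton_le_iff_mem P).mpr hxP
  exact Module.Finite.of_surjective ((Ideal.Quotient.factorₐ R hle).toLinearMap)
    (Ideal.Quotient.factor_surjective hle)

omit [IsDomain A] [IsNoetherianRing R] [Ring.KrullDimLE 1 R] [IsDomain R] [IsFractionRing R K] in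
/-- The embedding attached to a finite-dimensional target. -/
theorem exists_embedding {L : Type*} [Field L] [Algebra K L] [FiniteDimensional K L] [Algebra R L]
    [IsScalarTower R K L] [Algebra A L] [IsScalarTower R A L]
    (hA : Function.Injective (algebraMap A L)) :
    ∃ j : A →ₗ[R] (Fin (Module.finrank K L) → K), Function.Injective j :=
  ⟨((Module.finBasis K L).equivFun.restrictScalars R).toLinearMap.comp
      (IsScalarTower.toAlgHom R A L).toLinearMap,
    (Module.finBasis K L).equivFun.injective.comp hA⟩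

end Overring

end Groth.Agent.KrullAkizuki
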