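import Groth.Agent.KrullAkizuki.Semilocal

set_option autoImplicit false
set_option linter.style.haveILetI false

/-!
# Intersections of one-dimensional semilocal subrings of a field
-/

namespace Groth.Agent.KrullAkizuki

universe u

open AlgebraicGeometry CategoryTheory

variable {K : Type u} [Field K]

theorem InJac.add {B : Subring K} {x y : K} (hx : InJac B x) (hy : InJac B y) : InJac B (x + y) :=
  ⟨B.add_mem hx.1 hy.1, (Ideal.jacobson (⊥ : Ideal B)).add_mem hx.2 hy.2⟩

theorem InJac.zero (B : Subring K) : InJac B (0 : K) :=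
  ⟨B.zero_mem, (Ideal.jacobson (⊥ : Ideal B)).zero_mem⟩

theorem InJac.sum {B : Subring K} {ι : Type*} (s : Finset ι) (f : ι → K)
    (h : ∀ i ∈ s, InJac B (f i)) : InJac B (∑ i ∈ s, f i) := by
  classical
  induction s using Finset.induction_on with
  | empty => simpa using InJac.zero B
  | @insert a t ha ih =>
    rw [Finset.sum_insert ha]
    exact (h a (Finset.mem_insert_self a t)).add (ih fun i hi => h i (Finset.mem_insert_of_mem hi))

variable {ι : Type*} [Finite ι] (A : ι → Subring K)
  [∀ i, IsNoetherianRing (A i)] [∀ i, IsFractionRing (A i) K]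
  (hdim : ∀ i, ringKrullDim (A i) = 1) (hsl : ∀ i, Finite (MaximalSpectrum (A i)))
  (hgen : ∀ i j, i ≠ j → A i ⊔ A j = ⊤)

include hdim hsl hgen

/-- An element which is a unit of `A i` and in the Jacobson radical of the other rings. -/
theorem exists_separating (i : ι) :
    ∃ s : K, s ∈ A i ∧ s ≠ 0 ∧ s⁻¹ ∈ A i ∧ ∀ k, k ≠ i → InJac (A k) s := by
  classical
  haveI := fun i => krullDimLE_one_of_eq (hdim i)
  haveI := hsl
  obtain ⟨x, hxA, hx0, hx⟩ := exists_inv_inJac (A i) (fun k : {k // k ≠ i} => A k.1)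
    (fun k => hdim k) (fun k => hsl k) (fun k => hgen i k k.2.symm)
  obtain ⟨j₀, hj0, hj⟩ := exists_inJac_ne_zero (A i) (not_isField_of_dim_one (hdim i))
  have hev := fun k : {k // k ≠ i} => InJac.eventually_pow_mul (A k.1) (hx k) j₀⁻¹
  choose n hn using hev
  haveI := Fintype.ofFinite {k // k ≠ i}
  set N := Finset.univ.sup n with hN
  have hu : InJac (A i) (x ^ N * j₀) := by
    rw [mul_comm]; exact hj.mul_mem ((A i).pow_mem hxA N)
  obtain ⟨v, hv, huv⟩ := hu.one_add_unit
  have hv0 : v ≠ 0 := right_ne_zero_of_mul_eq_one huv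
  refine ⟨v, hv, hv0, ?_, fun k hk => ?_⟩
  · rw [← eq_inv_of_mul_eq_one_left huv]
    exact (A i).add_mem (A i).one_mem hu.mem
  · have hq := hn ⟨k, hk⟩ N (Finset.le_sup (Finset.mem_univ (⟨k, hk⟩ : {k // k ≠ i})))
    obtain ⟨w, hw, hqw⟩ := hq.one_add_unit
    have hvw : v = x⁻¹ ^ N * j₀⁻¹ * w := by
      have h2 : x ^ N * j₀ * (x⁻¹ ^ N * j₀⁻¹) = 1 := by
        rw [inv_pow]; field_simp
      have h3 : (1 + x ^ N * j₀) * (x⁻¹ ^ N * j₀⁻¹ * w) = 1 := by
        linear_combination hqw + w * h2
      exact mul_left_cancel₀ (left_ne_zero_of_mul_eq_one huv) (huv.trans h3.symm)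
    rw [hvw]
    exact hq.mul_mem hw

variable {A} (R : Subring K) (hR : ∀ x, x ∈ R ↔ ∀ i, x ∈ A i)

include hR

omit hdim hsl hgen [Finite ι] [∀ i, IsNoetherianRing (A i)] [∀ i, IsFractionRing (A i) K] in
theorem le_component (i : ι) : R ≤ A i := fun _ hx => (hR _).mp hx i

/-- The separating family inside the intersection. -/
theorem exists_separating_family [Nonempty ι] : ∃ s : ι → R,
    (∀ i, (s i : K) ≠ 0 ∧ (s i : K)⁻¹ ∈ A i) ∧ (∀ i k, k ≠ i → InJac (A k) (s i : K)) ∧
      Ideal.span (Set.range s) = ⊤ := by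
  classical
  haveI := hsl
  choose s hs hs0 hsinv hsJ using exists_separating A hdim hsl hgen
  have hmem : ∀ i, s i ∈ R := fun i => (hR _).mpr fun k => by
    by_cases hk : k = i
    · exact hk ▸ hs i
    · exact (hsJ i k hk).mem
  refine ⟨fun i => ⟨s i, hmem i⟩, fun i => ⟨hs0 i, hsinv i⟩, hsJ, ?_⟩
  haveI := Fintype.ofFinite ι
  obtain ⟨i₀⟩ := ‹Nonempty ι›
  have hunit : ∀ k, ∃ w ∈ A k, (∑ i, s i) * w = 1 := by
    intro k
    have hJ : InJac (A k) ((∑ i ∈ Finset.univ.erase k, s i) * (s k)⁻¹) :=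
      (InJac.sum _ _ fun i hi => hsJ i k (Finset.ne_of_mem_erase hi).symm).mul_mem (hsinv k)
    obtain ⟨w, hw, h1w⟩ := hJ.one_add_unit
    refine ⟨(s k)⁻¹ * w, (A k).mul_mem (hsinv k) hw, ?_⟩
    rw [← Finset.add_sum_erase _ _ (Finset.mem_univ k), ← mul_assoc, add_mul,
      mul_inv_cancel₀ (hs0 k), h1w]
  obtain ⟨w, -, hw⟩ := hunit i₀
  have hwR : w ∈ R := (hR w).mpr fun k => by
    obtain ⟨w', hw', hkw⟩ := hunit k
    rwa [mul_left_cancel₀ (left_ne_zero_of_mul_eq_one hw) (hw.trans hkw.symm)]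
  rw [Ideal.eq_top_iff_one]
  have h1 : (1 : R) = (∑ i, (⟨s i, hmem i⟩ : R)) * ⟨w, hwR⟩ := Subtype.ext (by simp [hw])
  rw [h1]
  exact Ideal.mul_mem_right _ _ (Ideal.sum_mem _ fun i _ => Ideal.subset_span ⟨i, rfl⟩)

/-- Each `A i` is the localization of `R` away from the corresponding separating element. -/
theorem isLocalization_away (s : ι → R) (hs : ∀ i, (s i : K) ≠ 0 ∧ (s i : K)⁻¹ ∈ A i)
    (hsJ : ∀ i k, k ≠ i → InJac (A k) (s i : K)) (i : ι) (h : R ≤ A i) :
    @IsLocalization.Away R _ (s i) (A i) _ (Subring.inclusion h).toAlgebra := by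
  classical
  letI := (Subring.inclusion h).toAlgebra
  haveI := fun i => krullDimLE_one_of_eq (hdim i)
  refine IsLocalization.Away.mk (s i) ?_ ?_ ?_
  · refine IsUnit.of_mul_eq_one ⟨(s i : K)⁻¹, (hs i).2⟩ (Subtype.ext ?_)
    show (s i : K) * (s i : K)⁻¹ = 1
    exact mul_inv_cancel₀ (hs i).1
  · intro a
    haveI := Fintype.ofFinite ι
    have hev := fun k : {k // k ≠ i} => InJac.eventually_pow_mul (A k.1) (hsJ i k.1 k.2) (a : K)
    choose n hn using hev
    set N := Finset.univ.sup n with hN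
    have hmem : (a : K) * (s i : K) ^ N ∈ R := (hR _).mpr fun k => by
      by_cases hk : k = i
      · subst hk; exact (A k).mul_mem a.2 ((A k).pow_mem (h (s k).2) N)
      · rw [mul_comm]
        exact (hn ⟨k, hk⟩ N (Finset.le_sup (Finset.mem_univ (⟨k, hk⟩ : {k // k ≠ i})))).mem
    exact ⟨N, ⟨_, hmem⟩, Subtype.ext (by simp [RingHom.algebraMap_toAlgebra])⟩
  · intro a b hab
    exact ⟨0, by rw [pow_zero, one_mul, one_mul]; exact Subring.inclusion_injective h hab⟩

theorem isFractionRing_inter [Nonempty ι] : IsFractionRing R K := by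
  obtain ⟨s, hs, hsJ, -⟩ := exists_separating_family hdim hsl hgen R hR
  obtain ⟨i⟩ := ‹Nonempty ι›
  letI := (Subring.inclusion (le_component R hR i)).toAlgebra
  haveI := isLocalization_away hdim hsl hgen R hR s hs hsJ i (le_component R hR i)
  haveI : IsScalarTower R (A i) K := IsScalarTower.of_algebraMap_eq fun b => rfl
  refine IsFractionRing.of_field R K fun f => ?_
  obtain ⟨a, b, hb, hab⟩ := IsFractionRing.div_surjective (A := A i) f
  obtain ⟨⟨ra, c⟩, ha⟩ := IsLocalization.surj (Submonoid.powers (s i)) a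
  obtain ⟨⟨rb, d⟩, hb'⟩ := IsLocalization.surj (Submonoid.powers (s i)) b
  have ha' : (a : K) * (c : R) = ra := congrArg Subtype.val ha
  have hb'' : (b : K) * (d : R) = rb := congrArg Subtype.val hb'
  have hab' : (a : K) / b = f := hab
  have hpow : ∀ e : Submonoid.powers (s i), ((e : R) : K) ≠ 0 := by
    rintro ⟨_, n, rfl⟩; simpa using pow_ne_zero n (hs i).1
  have hb0 : (b : K) ≠ 0 := fun e => nonZeroDivisors.ne_zero hb (Subtype.ext e)
  refine ⟨ra * d, rb * c, ?_⟩
  show f = ((ra * d : R) : K) / ((rb * c : R) : K)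
  have hc := hpow c
  have hd := hpow d
  rw [← hab', Subring.coe_mul, Subring.coe_mul, ← ha', ← hb'']
  field_simp

theorem isNoetherianRing_inter [Nonempty ι] : IsNoetherianRing R := by
  classical
  obtain ⟨s, hs, hsJ, hspan⟩ := exists_separating_family hdim hsl hgen R hR
  haveI := Fintype.ofFinite ι
  refine AlgebraicGeometry.isNoetherianRing_of_away (Finset.univ.image s)
    (by rw [Finset.coe_image, Finset.coe_univ, Set.image_univ]; exact hspan) ?_
  rintro ⟨r, hr⟩
  obtain ⟨i, -, rfl⟩ := Finset.mem_image.mp hr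
  letI := (Subring.inclusion (le_component R hR i)).toAlgebra
  haveI := isLocalization_away hdim hsl hgen R hR s hs hsJ i (le_component R hR i)
  exact isNoetherianRing_of_ringEquiv (A i)
    (IsLocalization.algEquiv (Submonoid.powers (s i)) (A i) (Localization.Away (s i))).toRingEquiv

theorem isMaximal_inter [Nonempty ι] (P : Ideal R) [hP : P.IsPrime] (hP0 : P ≠ ⊥) :
    P.IsMaximal := by
  obtain ⟨s, hs, hsJ, hspan⟩ := exists_separating_family hdim hsl hgen R hR
  obtain ⟨M, hM, hPM⟩ := Ideal.exists_le_maximal P hP.ne_top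
  obtain ⟨i, hi⟩ : ∃ i, s i ∉ M := by
    by_contra! h
    exact hM.ne_top (eq_top_iff.mpr (hspan ▸ Ideal.span_le.mpr (Set.range_subset_iff.mpr h)))
  letI := (Subring.inclusion (le_component R hR i)).toAlgebra
  haveI := isLocalization_away hdim hsl hgen R hR s hs hsJ i (le_component R hR i)
  haveI := krullDimLE_one_of_eq (hdim i)
  have hdM : Disjoint (Submonoid.powers (s i) : Set R) (M : Set R) :=
    Set.disjoint_left.mpr fun x ⟨n, hn⟩ hx => hi (hM.isPrime.mem_of_pow_mem n (hn ▸ hx :))
  have hdP : Disjoint (Submonoid.powers (s i) : Set R) (P : Set R) := hdM.mono_right hPM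
  have hPM' : P.map (algebraMap R (A i)) ≤ M.map (algebraMap R (A i)) := Ideal.map_mono hPM
  have eP := IsLocalization.under_map_of_isPrime_disjoint (Submonoid.powers (s i)) (A i) hP hdP
  have eM := IsLocalization.under_map_of_isPrime_disjoint (Submonoid.powers (s i)) (A i) hM.isPrime hdM
  have hne : P.map (algebraMap R (A i)) ≠ ⊥ := fun h => hP0 (by
    rw [← eP, h, eq_bot_iff]
    intro x hx
    exact Ideal.mem_bot.mpr (Subring.inclusion_injective (le_component R hR i)
      ((Ideal.mem_bot.mp hx).trans (map_zero _).symm)))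
  have hmax := Ring.krullDimLE_one_iff_of_isPrime_bot.mp ‹Ring.KrullDimLE 1 (A i)› _ hne
    (IsLocalization.isPrime_of_isPrime_disjoint (Submonoid.powers (s i)) (A i) P hP hdP)
  have heq := hmax.eq_of_le
    (IsLocalization.isPrime_of_isPrime_disjoint (Submonoid.powers (s i)) (A i) M hM.isPrime hdM).ne_top hPM'
  rw [← eP, heq, eM]
  exact hM

theorem ringKrullDim_inter [Nonempty ι] : ringKrullDim R = 1 := by
  haveI : Ring.KrullDimLE 1 R := Ring.krullDimLE_one_iff_of_isPrime_bot.mpr fun P hP hP' =>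
    haveI := hP'; isMaximal_inter hdim hsl hgen R hR P hP
  have hnf : ¬ IsField R := by
    intro hF
    obtain ⟨i⟩ := ‹Nonempty ι›
    haveI := isFractionRing_inter hdim hsl hgen R hR
    refine not_isField_of_dim_one (hdim i) ?_
    have hall : ∀ x : K, x ∈ R := by
      intro x
      obtain ⟨a, b, hb, hab⟩ := IsFractionRing.div_surjective (A := R) x
      obtain ⟨c, hc⟩ := hF.mul_inv_cancel (nonZeroDivisors.ne_zero hb)
      have hc' : (b : K) * c = 1 := congrArg Subtype.val hc
      have hab' : (a : K) / b = x := hab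
      rw [← hab', div_eq_mul_inv, inv_eq_of_mul_eq_one_right hc']
      exact R.mul_mem a.2 c.2
    exact MulEquiv.isField (Field.toIsField K)
      ({ toFun := fun a => (a : K)
         invFun := fun x => ⟨x, le_component R hR i (hall x)⟩
         left_inv := fun a => rfl
         right_inv := fun x => rfl
         map_mul' := fun a b => rfl } : A i ≃* K)
  refine le_antisymm (by exact_mod_cast Ring.krullDimLE_iff.mp ‹Ring.KrullDimLE 1 R›) ?_
  by_contra h
  have h1 : ringKrullDim R < ((0 : ℕ) : WithBot ℕ∞) + 1 := by simpa using not_le.mp h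
  have h0 : Ring.KrullDimLE 0 R := Ring.krullDimLE_iff.mpr (ENat.WithBot.lt_add_one_iff.mp h1)
  exact hnf Ring.KrullDimLE.isField_of_isDomain

theorem finite_maximalSpectrum_inter [Nonempty ι] : Finite (MaximalSpectrum R) := by
  classical
  obtain ⟨s, hs, hsJ, hspan⟩ := exists_separating_family hdim hsl hgen R hR
  haveI := hsl
  haveI := fun i => krullDimLE_one_of_eq (hdim i)
  have key : ∀ M : MaximalSpectrum R, ∃ q : Σ i, MaximalSpectrum (A i),
      q.2.asIdeal.comap (Subring.inclusion (le_component R hR q.1)) = M.asIdeal := by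
    intro M
    obtain ⟨i, hi⟩ : ∃ i, s i ∉ M.asIdeal := by
      by_contra! h
      exact M.isMaximal.ne_top (eq_top_iff.mpr (hspan ▸ Ideal.span_le.mpr (Set.range_subset_iff.mpr h)))
    letI := (Subring.inclusion (le_component R hR i)).toAlgebra
    haveI := isLocalization_away hdim hsl hgen R hR s hs hsJ i (le_component R hR i)
    have hd : Disjoint (Submonoid.powers (s i) : Set R) (M.asIdeal : Set R) :=
      Set.disjoint_left.mpr fun x ⟨n, hn⟩ hx => hi (M.isMaximal.isPrime.mem_of_pow_mem n (hn ▸ hx :))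
    have e := IsLocalization.under_map_of_isPrime_disjoint (Submonoid.powers (s i)) (A i)
      M.isMaximal.isPrime hd
    have hp := IsLocalization.isPrime_of_isPrime_disjoint (Submonoid.powers (s i)) (A i) _
      M.isMaximal.isPrime hd
    obtain ⟨N, hN, hle⟩ := Ideal.exists_le_maximal _ hp.ne_top
    refine ⟨⟨i, ⟨N, hN⟩⟩, (M.isMaximal.eq_of_le (Ideal.comap_ne_top _ hN.ne_top) ?_).symm⟩
    exact e.ge.trans (Ideal.comap_mono hle)
  choose g hg using key
  exact Finite.of_injective g fun M M' h => MaximalSpectrum.ext ((hg M).symm.trans (h ▸ hg M'))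

theorem isOpenImmersion_inclusion [Nonempty ι] (i : ι) (h : R ≤ A i) :
    IsOpenImmersion (Spec.map (CommRingCat.ofHom (Subring.inclusion h))) := by
  obtain ⟨s, hs, hsJ, -⟩ := exists_separating_family hdim hsl hgen R hR
  letI := (Subring.inclusion h).toAlgebra
  haveI := isLocalization_away hdim hsl hgen R hR s hs hsJ i h
  exact IsOpenImmersion.of_isLocalization (R := R) (S := A i) (s i)

theorem mem_range_inclusion (s : ι → R) (hs : ∀ i, (s i : K) ≠ 0 ∧ (s i : K)⁻¹ ∈ A i)
    (hsJ : ∀ i k, k ≠ i → InJac (A k) (s i : K)) (i : ι) (h : R ≤ A i) (P : PrimeSpectrum R) :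
    P ∈ Set.range (Spec.map (CommRingCat.ofHom (Subring.inclusion h))).base ↔ s i ∉ P.asIdeal := by
  letI := (Subring.inclusion h).toAlgebra
  haveI := isLocalization_away hdim hsl hgen R hR s hs hsJ i h
  have := PrimeSpectrum.localization_away_comap_range (A i) (s i)
  have h' := Set.ext_iff.mp this P
  exact h'

theorem iUnion_range_inclusion [Nonempty ι] (h : ∀ i, R ≤ A i) :
    (⋃ i, Set.range (Spec.map (CommRingCat.ofHom (Subring.inclusion (h i)))).base) = Set.univ := by
  obtain ⟨s, hs, hsJ, hspan⟩ := exists_separating_family hdim hsl hgen R hR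
  refine Set.eq_univ_of_forall fun P => Set.mem_iUnion.mpr ?_
  by_contra! hP
  refine (show PrimeSpectrum R from P).isPrime.ne_top (eq_top_iff.mpr (hspan ▸ Ideal.span_le.mpr
    (Set.range_subset_iff.mpr fun i => ?_)))
  by_contra hi
  exact hP i ((mem_range_inclusion hdim hsl hgen R hR s hs hsJ i (h i) P).mpr hi)

theorem existsUnique_range_inclusion [Nonempty ι] (h : ∀ i, R ≤ A i) (m : PrimeSpectrum R)
    (hm : m.asIdeal.IsMaximal) :
    ∃! i, m ∈ Set.range (Spec.map (CommRingCat.ofHom (Subring.inclusion (h i)))).base := by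
  obtain ⟨s, hs, hsJ, hspan⟩ := exists_separating_family hdim hsl hgen R hR
  obtain ⟨i, hi⟩ : ∃ i, s i ∉ m.asIdeal := by
    by_contra! hh
    exact hm.ne_top (eq_top_iff.mpr (hspan ▸ Ideal.span_le.mpr (Set.range_subset_iff.mpr hh)))
  refine ⟨i, (mem_range_inclusion hdim hsl hgen R hR s hs hsJ i (h i) m).mpr hi, fun k hk => ?_⟩
  have hk' := (mem_range_inclusion hdim hsl hgen R hR s hs hsJ k (h k) m).mp hk
  by_contra hne
  letI := (Subring.inclusion (h i)).toAlgebra
  haveI := isLocalization_away hdim hsl hgen R hR s hs hsJ i (h i)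
  have hd : Disjoint (Submonoid.powers (s i) : Set R) (m.asIdeal : Set R) :=
    Set.disjoint_left.mpr fun x ⟨n, hn⟩ hx => hi (hm.isPrime.mem_of_pow_mem n (hn ▸ hx :))
  have e := IsLocalization.under_map_of_isPrime_disjoint (Submonoid.powers (s i)) (A i) hm.isPrime hd
  have hp := IsLocalization.isPrime_of_isPrime_disjoint (Submonoid.powers (s i)) (A i) _ hm.isPrime hd
  obtain ⟨N, hN, hle⟩ := Ideal.exists_le_maximal _ hp.ne_top
  have heq : m.asIdeal = N.comap (algebraMap R (A i)) :=
    hm.eq_of_le (Ideal.comap_ne_top _ hN.ne_top) (e.ge.trans (Ideal.comap_mono hle))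
  apply hk'
  rw [heq, Ideal.mem_comap]
  exact (hsJ k i (Ne.symm hne)).mem_maximal N (hm := hN)

omit hsl hgen hR in
/-- `K` is the localization of `A i` away from an element of its Jacobson radical. -/
theorem isLocalization_away_field (i : ι) (t : A i) (ht0 : (t : K) ≠ 0) (ht : InJac (A i) (t : K)) :
    IsLocalization.Away t K := by
  haveI := krullDimLE_one_of_eq (hdim i)
  refine IsLocalization.Away.mk t ((Ne.isUnit ht0 :) ) ?_ ?_
  · intro f
    obtain ⟨n, hn⟩ := InJac.eventually_pow_mul (A i) ht f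
    exact ⟨n, ⟨_, (hn n le_rfl).mem⟩, by rw [mul_comm]; rfl⟩
  · intro a b hab
    exact ⟨0, by rw [pow_zero, one_mul, one_mul]; exact Subtype.ext hab⟩

/-- The two-ring pushout. -/
theorem isPushout_inclusion [Nonempty ι] (i k : ι) (hik : k ≠ i) (hi : R ≤ A i) (hk : R ≤ A k) :
    IsPushout (CommRingCat.ofHom (Subring.inclusion hi)) (CommRingCat.ofHom (Subring.inclusion hk))
      (CommRingCat.ofHom (A i).subtype) (CommRingCat.ofHom (A k).subtype) := by
  obtain ⟨s, hs, hsJ, -⟩ := exists_separating_family hdim hsl hgen R hR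
  letI := (Subring.inclusion hk).toAlgebra
  haveI := isLocalization_away hdim hsl hgen R hR s hs hsJ k hk
  haveI : IsLocalization ((Submonoid.powers (s k)).map (Subring.inclusion hi)) K := by
    rw [Submonoid.map_powers]
    exact isLocalization_away_field hdim i (Subring.inclusion hi (s k)) (hs k).1 (hsJ k i hik.symm)
  exact CommRingCat.isPushout_of_isLocalization (R := R) (S := A i) (Rₘ := A k) (Sₘ := K)
    (Subring.inclusion hi) (A k).subtype (RingHom.ext fun r => rfl) (Submonoid.powers (s k))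

omit hdim hsl hgen hR

/-- Two semilocal one-dimensional rings generating the field glue to their intersection. -/
theorem glue_two {K : Type u} [Field K] (A B : Subring K) [IsFractionRing A K] [IsFractionRing B K]
    [IsNoetherianRing A] [IsNoetherianRing B]
    (hdimA : ringKrullDim A = 1) (hdimB : ringKrullDim B = 1)
    (hslA : Finite (MaximalSpectrum A)) (hslB : Finite (MaximalSpectrum B)) (hgen : A ⊔ B = ⊤) :
    IsOpenImmersion (Spec.map (CommRingCat.ofHom (Subring.inclusion (inf_le_left : A ⊓ B ≤ A)))) ∧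
      IsOpenImmersion (Spec.map (CommRingCat.ofHom (Subring.inclusion (inf_le_right : A ⊓ B ≤ B)))) ∧
      Set.range (Spec.map (CommRingCat.ofHom (Subring.inclusion (inf_le_left : A ⊓ B ≤ A)))).base ∪
        Set.range (Spec.map (CommRingCat.ofHom (Subring.inclusion (inf_le_right : A ⊓ B ≤ B)))).base = Set.univ ∧
      IsPushout (CommRingCat.ofHom (Subring.inclusion (inf_le_left : A ⊓ B ≤ A)))
        (CommRingCat.ofHom (Subring.inclusion (inf_le_right : A ⊓ B ≤ B)))
        (CommRingCat.ofHom A.subtype) (CommRingCat.ofHom B.subtype) := by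
  let F : Bool → Subring K := fun b => cond b A B
  haveI : ∀ i, IsNoetherianRing (F i) := Bool.forall_bool.mpr ⟨‹_›, ‹_›⟩
  haveI : ∀ i, IsFractionRing (F i) K := Bool.forall_bool.mpr ⟨‹_›, ‹_›⟩
  have hdim : ∀ i, ringKrullDim (F i) = 1 := Bool.forall_bool.mpr ⟨hdimB, hdimA⟩
  have hsl : ∀ i, Finite (MaximalSpectrum (F i)) := Bool.forall_bool.mpr ⟨hslB, hslA⟩
  have hg : ∀ i j, i ≠ j → F i ⊔ F j = ⊤ := by
    rintro (_ | _) (_ | _) h
    · exact absurd rfl h
    · exact (sup_comm _ _).trans hgen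
    · exact hgen
    · exact absurd rfl h
  have hR : ∀ x, x ∈ A ⊓ B ↔ ∀ i, x ∈ F i := fun x => by
    rw [Subring.mem_inf, Bool.forall_bool]; exact and_comm
  refine ⟨isOpenImmersion_inclusion hdim hsl hg _ hR true inf_le_left,
    isOpenImmersion_inclusion hdim hsl hg _ hR false inf_le_right, ?_,
    isPushout_inclusion hdim hsl hg _ hR true false Bool.false_ne_true inf_le_left inf_le_right⟩
  refine Eq.trans ?_ (iUnion_range_inclusion hdim hsl hg _ hR
    (Bool.forall_bool.mpr ⟨inf_le_right, inf_le_left⟩))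
  ext P
  simp only [Set.mem_union, Set.mem_iUnion, Bool.exists_bool]
  exact or_comm

end Groth.Agent.KrullAkizuki
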