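import Groth.Agent.KrullAkizuki.Basic

set_option autoImplicit false
set_option linter.style.haveILetI false

/-!
# One-dimensional semilocal subrings of a field
-/

namespace Groth.Agent.KrullAkizuki

universe u

variable {K : Type u} [Field K]

/-- `x` lies in `B` and in its Jacobson radical. -/
def InJac (B : Subring K) (x : K) : Prop :=
  ∃ h : x ∈ B, (⟨x, h⟩ : B) ∈ (⊥ : Ideal B).jacobson

theorem InJac.mem {B : Subring K} {x : K} (h : InJac B x) : x ∈ B := h.1

theorem InJac.mul_mem {B : Subring K} {x y : K} (h : InJac B x) (hy : y ∈ B) : InJac B (x * y) :=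
  ⟨B.mul_mem h.1 hy, (Ideal.jacobson (⊥ : Ideal B)).mul_mem_right ⟨y, hy⟩ h.2⟩

theorem InJac.mem_maximal {B : Subring K} {x : K} (h : InJac B x) (m : Ideal B) [hm : m.IsMaximal] :
    (⟨x, h.1⟩ : B) ∈ m :=
  (sInf_le ⟨bot_le, hm⟩ : (⊥ : Ideal B).jacobson ≤ m) h.2

theorem InJac.one_add_unit {B : Subring K} {x : K} (h : InJac B x) :
    ∃ v ∈ B, (1 + x) * v = 1 := by
  have := Ideal.mem_jacobson_bot.mp h.2 1
  rw [mul_one, add_comm] at this
  obtain ⟨v, hv⟩ := this.exists_right_inv
  exact ⟨v, v.2, congrArg Subtype.val hv⟩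

theorem exists_inJac_ne_zero (B : Subring K) [Finite (MaximalSpectrum B)] (hnf : ¬ IsField B) :
    ∃ x : K, x ≠ 0 ∧ InJac B x := by
  classical
  haveI := Fintype.ofFinite (MaximalSpectrum B)
  have hne : ∀ m : MaximalSpectrum B, ∃ a ∈ m.asIdeal, a ≠ 0 := fun m => by
    obtain ⟨a, ha, ha0⟩ := Submodule.exists_mem_ne_zero_of_ne_bot
      (fun h : m.asIdeal = ⊥ => hnf (by
        have := m.isMaximal
        rw [h] at this
        exact MulEquiv.isField ((Ideal.Quotient.maximal_ideal_iff_isField_quotient _).mp this)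
          (RingEquiv.quotientBot B).symm.toMulEquiv))
    exact ⟨a, ha, ha0⟩
  choose a ha ha0 using hne
  refine ⟨((∏ m, a m : B) : K), ?_, (∏ m, a m : B).2, ?_⟩
  · intro h
    exact Finset.prod_ne_zero_iff.mpr (fun m _ => ha0 m) (Subtype.ext h : (∏ m, a m : B) = 0)
  · show (∏ m, a m : B) ∈ _
    rw [Ideal.jacobson, Ideal.mem_sInf]
    rintro J ⟨-, hJ⟩
    exact J.prod_mem (Finset.mem_univ ⟨J, hJ⟩) (ha ⟨J, hJ⟩)

theorem not_isField_of_dim_one {B : Type*} [CommRing B] (hdim : ringKrullDim B = 1) : ¬ IsField B :=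
  fun h => by
    rw [ringKrullDim_eq_zero_of_isField h] at hdim
    exact absurd hdim (by simp)

theorem krullDimLE_one_of_eq {B : Type*} [CommRing B] (hdim : ringKrullDim B = 1) :
    Ring.KrullDimLE 1 B :=
  Ring.krullDimLE_iff.mpr (by exact_mod_cast hdim.le)

/-- In a subring of dimension at most one, high powers of an element of the radical
absorb any element of the field. -/
theorem InJac.eventually_pow_mul (B : Subring K) [Ring.KrullDimLE 1 B] [IsFractionRing B K]
    {z : K} (hz : InJac B z) (q : K) : ∃ n : ℕ, ∀ m, n ≤ m → InJac B (z ^ m * q) := by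
  obtain ⟨b, c, hc, hq⟩ := IsFractionRing.div_surjective (A := B) q
  have hc0 : c ≠ 0 := nonZeroDivisors.ne_zero hc
  have hrad : (⟨z, hz.1⟩ : B) ∈ (Ideal.span {c}).radical := by
    rw [Ideal.radical_eq_sInf, Ideal.mem_sInf]
    rintro P ⟨hcP, hP⟩
    haveI : P.IsMaximal := Ring.krullDimLE_one_iff_of_isPrime_bot.mp ‹_› P
      (fun h => hc0 (by simpa [h, Ideal.mem_bot] using hcP (Ideal.mem_span_singleton_self c))) hP
    exact hz.mem_maximal P
  obtain ⟨n, hn⟩ := hrad
  obtain ⟨d, hd⟩ := Ideal.mem_span_singleton'.mp hn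
  refine ⟨n + 1, fun m hm => ?_⟩
  obtain ⟨k, rfl⟩ := Nat.exists_eq_add_of_le hm
  have hd' : (d : K) * c = z ^ n := congrArg Subtype.val hd
  have hck : (c : K) ≠ 0 := fun h => hc0 (Subtype.ext h)
  have key : z ^ (n + 1 + k) * q = z * (z ^ k * ((d : K) * b)) := by
    have hq' : (b : K) / c = q := hq
    rw [← hq', pow_add, pow_succ, ← hd']
    field_simp
  rw [key]
  exact hz.mul_mem (B.mul_mem (B.pow_mem hz.1 k) (B.mul_mem d.2 b.2))

/-! ### Valuation subrings containing `B` -/

theorem exists_valuationSubring_center {C : Subring K} (P : Ideal C) [hP : P.IsMaximal] :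
    ∃ V : ValuationSubring K, C ≤ V.toSubring ∧ ∀ a : C, (a : K) ∈ V.nonunits ↔ a ∈ P := by
  obtain ⟨V, hCV, hPV⟩ := Ideal.image_subset_nonunits_valuationSubring P hP.ne_top
  refine ⟨V, hCV, fun a => ⟨fun ha => ?_, fun ha => hPV ⟨a, ha, rfl⟩⟩⟩
  by_contra haP
  obtain ⟨c, p, hp, hcp⟩ := hP.exists_inv haP
  have hone : (1 : K) ∈ V.nonunits := by
    have h1 : (c : K) * a + p = 1 := congrArg Subtype.val hcp
    obtain ⟨ha', hma⟩ := V.mem_nonunits_iff_exists_mem_maximalIdeal.mp ha
    obtain ⟨hp', hmp⟩ := V.mem_nonunits_iff_exists_mem_maximalIdeal.mp (hPV ⟨p, hp, rfl⟩)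
    rw [← h1]
    refine V.mem_nonunits_iff_exists_mem_maximalIdeal.mpr ⟨V.add_mem _ _ (V.mul_mem _ _ (hCV c.2) ha') hp', ?_⟩
    exact Ideal.add_mem _ (Ideal.mul_mem_left (IsLocalRing.maximalIdeal V) ⟨c, hCV c.2⟩ hma) hmp
  rw [ValuationSubring.mem_nonunits_iff, map_one] at hone
  exact lt_irrefl _ hone

variable (B : Subring K) [IsNoetherianRing B] [IsFractionRing B K] [Ring.KrullDimLE 1 B]

theorem exists_embedding_subring {C : Type u} [CommRing C] [Algebra B C] [Algebra C K]
    [IsScalarTower B C K] (h : Function.Injective (algebraMap C K)) :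
    ∃ (r : ℕ) (j : C →ₗ[B] (Fin r → K)), Function.Injective j :=
  ⟨_, exists_embedding (R := B) (K := K) (L := K) h⟩

/-- A nontrivial valuation subring over a one-dimensional Noetherian subring is a DVR. -/
theorem isDiscreteValuationRing_of_le (V : ValuationSubring K) (h : B ≤ V.toSubring)
    (hV : V ≠ ⊤) : IsDiscreteValuationRing V := by
  letI : Algebra B V := (Subring.inclusion h).toAlgebra
  haveI : IsScalarTower B V K := IsScalarTower.of_algebraMap_eq fun b => rfl
  obtain ⟨r, j, hj⟩ := exists_embedding_subring B (C := V) Subtype.val_injective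
  haveI := isNoetherianRing_of_injective j hj
  haveI : IsPrincipalIdealRing V := IsPrincipalIdealRing.of_isNoetherianRing_of_isBezout
  refine { not_a_field' := fun hm => hV ?_ }
  rw [eq_top_iff]
  intro x _
  rcases V.mem_or_inv_mem x with hx | hx
  · exact hx
  by_contra hx'
  have h1 : x⁻¹ ∈ V.nonunits := V.inv_mem_nonunits_iff.mpr (Or.inr hx')
  obtain ⟨_, h2⟩ := V.mem_nonunits_iff_exists_mem_maximalIdeal.mp h1
  rw [hm, Ideal.mem_bot] at h2
  have : x⁻¹ = 0 := congrArg Subtype.val h2
  rw [inv_eq_zero] at this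
  exact hx' (this ▸ V.zero_mem)

theorem isDedekindDomain_integralClosure : IsDedekindDomain (integralClosure B K) := by
  obtain ⟨r, j, hj⟩ := exists_embedding_subring B (C := integralClosure B K) Subtype.val_injective
  haveI := isNoetherianRing_of_injective j hj
  haveI := dimensionLEOne_of_injective j hj
  haveI : IsFractionRing (integralClosure B K) K :=
    IsIntegralClosure.isFractionRing_of_finite_extension B K K (integralClosure B K)
  haveI : IsIntegrallyClosed (integralClosure B K) :=
    (isIntegrallyClosed_iff K).mpr fun {x} hx =>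
      IsIntegralClosure.isIntegral_iff.mp (isIntegral_trans (R := B) x hx)
  exact {}

variable [Finite (MaximalSpectrum B)]

/-- Finitely many nontrivial valuation subrings contain `B`. -/
theorem finite_valuationSubrings (hnf : ¬ IsField B) :
    {V : ValuationSubring K | B ≤ V.toSubring ∧ V ≠ ⊤}.Finite := by
  classical
  haveI := isDedekindDomain_integralClosure B
  haveI : IsFractionRing (integralClosure B K) K :=
    IsIntegralClosure.isFractionRing_of_finite_extension B K K (integralClosure B K)
  obtain ⟨r, j, hj⟩ := exists_embedding_subring B (C := integralClosure B K) Subtype.val_injective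
  obtain ⟨x₀, hx₀, hx₀J⟩ := exists_inJac_ne_zero B hnf
  have hfin := finite_primes_containing j hj ⟨x₀, hx₀J.1⟩ (fun h => hx₀ (congrArg Subtype.val h))
  have hle : ∀ V : ValuationSubring K, B ≤ V.toSubring → ∀ a : integralClosure B K, (a : K) ∈ V := by
    intro V hV a
    letI : Algebra B V := (Subring.inclusion hV).toAlgebra
    haveI : IsScalarTower B V K := IsScalarTower.of_algebraMap_eq fun b => rfl
    have hint : IsIntegral V (a : K) := (show IsIntegral B (a : K) from a.2).tower_top
    obtain ⟨y, hy⟩ := IsIntegrallyClosed.isIntegral_iff.mp hint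
    exact hy ▸ y.2
  let g : {V : ValuationSubring K // B ≤ V.toSubring ∧ V ≠ ⊤} → Ideal (integralClosure B K) := fun V =>
    (IsLocalRing.maximalIdeal V.1).comap
      (((integralClosure B K).val.toRingHom).codRestrict V.1.toSubring (hle V.1 V.2.1))
  have hmem : ∀ (V : {V : ValuationSubring K // B ≤ V.toSubring ∧ V ≠ ⊤}) (a : integralClosure B K),
      a ∈ g V ↔ (a : K) ∈ V.1.nonunits := fun V a =>
    ⟨fun h => V.1.mem_nonunits_iff_exists_mem_maximalIdeal.mpr ⟨_, h⟩,
     fun h => (V.1.mem_nonunits_iff_exists_mem_maximalIdeal.mp h).2⟩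
  have hprime : ∀ V, (g V).IsPrime := fun V => Ideal.comap_isPrime _ _
  have hne : ∀ V, g V ≠ ⊥ := by
    intro V h
    apply V.2.2
    rw [eq_top_iff]
    intro f _
    obtain ⟨a, b, hb, hab⟩ := IsFractionRing.div_surjective (A := B) f
    have hbV : ((b : K))⁻¹ ∈ V.1 := by
      by_contra hbV
      have : (b : K) ∈ V.1.nonunits := V.1.mem_nonunits_iff_or.mpr (Or.inr hbV)
      have hmem' := (hmem V (algebraMap B (integralClosure B K) b)).mpr this
      rw [h, Ideal.mem_bot] at hmem'
      exact nonZeroDivisors.ne_zero hb (Subtype.ext (congrArg (fun w : integralClosure B K => (w : K)) hmem' :))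
    have hab' : (a : K) / b = f := hab
    rw [← hab', div_eq_mul_inv]
    exact V.1.mul_mem _ _ (V.2.1 a.2) hbV
  haveI := hfin.to_subtype
  refine Set.finite_coe_iff.mp (Finite.of_injective (β := {P : Ideal (integralClosure B K) |
      P.IsPrime ∧ algebraMap B (integralClosure B K) ⟨x₀, hx₀J.1⟩ ∈ P})
      (fun V => ⟨g V, hprime V, ?_⟩) ?_)
  · haveI := hprime V
    haveI : (g V).IsMaximal := (hprime V).isMaximal (hne V)
    haveI : ((g V).comap (algebraMap B (integralClosure B K))).IsMaximal :=
      Ideal.isMaximal_comap_of_isIntegral_of_isMaximal (g V)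
    exact hx₀J.mem_maximal ((g V).comap (algebraMap B (integralClosure B K)))
  · intro V W hVW
    have hQ : g V = g W := congrArg Subtype.val hVW
    have key : ∀ V W, g V = g W → ∀ f ∈ (V : {V : ValuationSubring K // B ≤ V.toSubring ∧ V ≠ ⊤}).1,
        f ∈ (W : {V : ValuationSubring K // B ≤ V.toSubring ∧ V ≠ ⊤}).1 := by
      intro V W hQ f hf
      haveI := hprime V
      haveI := IsLocalization.AtPrime.isDiscreteValuationRing_of_dedekind_domain
        (integralClosure B K) (hne V) (Localization.AtPrime (g V))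
      obtain ⟨a, b, hb, hab⟩ := IsFractionRing.div_surjective (A := integralClosure B K) f
      have hb0 : (b : K) ≠ 0 := fun h => nonZeroDivisors.ne_zero hb (Subtype.ext h)
      have hab' : (a : K) / b = f := hab
      haveI : PreValuationRing (Localization.AtPrime (g V)) :=
        (ValuationRing.iff_local_bezout_domain.mpr ⟨inferInstance, inferInstance⟩ :
          ValuationRing (Localization.AtPrime (g V))).toPreValuationRing
      obtain ⟨c, hc⟩ := ValuationRing.cond (algebraMap (integralClosure B K) (Localization.AtPrime (g V)) a)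
        (algebraMap (integralClosure B K) (Localization.AtPrime (g V)) b)
      obtain ⟨⟨d, s⟩, hds⟩ := IsLocalization.surj (g V).primeCompl c
      have hinj : Function.Injective (algebraMap (integralClosure B K) (Localization.AtPrime (g V))) :=
        IsLocalization.injective (M := (g V).primeCompl) (Localization.AtPrime (g V))
          (Ideal.primeCompl_le_nonZeroDivisors (g V))
      -- `f` is an element of `integralClosure B K` divided by an element outside the centre
      obtain ⟨n, u, hu, hnu⟩ : ∃ n u : integralClosure B K, u ∉ g V ∧ f * (u : K) = n := by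
        rcases hc with hc | hc
        · have he : a * d = b * (s : integralClosure B K) := hinj (by
            rw [map_mul, map_mul, ← hds, ← mul_assoc, hc])
          have he' : (a : K) * d = b * ((s : integralClosure B K) : K) := congrArg Subtype.val he
          refine ⟨s, d, fun hd => s.2 ((hmem V _).mpr ?_), ?_⟩
          · have hfd : f * (d : K) = ((s : integralClosure B K) : K) := by
              rw [← hab', div_mul_eq_mul_div, he', mul_div_cancel_left₀ _ hb0]
            rw [← hfd]
            obtain ⟨hd', hdm⟩ := V.1.mem_nonunits_iff_exists_mem_maximalIdeal.mp ((hmem V d).mp hd)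
            exact V.1.mem_nonunits_iff_exists_mem_maximalIdeal.mpr
              ⟨V.1.mul_mem _ _ hf hd', Ideal.mul_mem_left (IsLocalRing.maximalIdeal V.1) ⟨f, hf⟩ hdm⟩
          · rw [← hab', div_mul_eq_mul_div, he', mul_div_cancel_left₀ _ hb0]
        · have he : b * d = a * (s : integralClosure B K) := hinj (by
            rw [map_mul, map_mul, ← hds, ← mul_assoc, hc])
          have he' : (b : K) * d = a * ((s : integralClosure B K) : K) := congrArg Subtype.val he
          exact ⟨d, s, s.2, by rw [← hab', div_mul_eq_mul_div, ← he', mul_div_cancel_left₀ _ hb0]⟩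
      rw [hQ] at hu
      have hu' : (u : K) ∉ W.1.nonunits := fun h => hu ((hmem W u).mpr h)
      rw [ValuationSubring.mem_nonunits_iff_or, not_or, not_not] at hu'
      rw [show f = (n : K) * (u : K)⁻¹ by rw [← hnu, mul_assoc, mul_inv_cancel₀ hu'.1, mul_one]]
      exact W.1.mul_mem _ _ (hle W.1 W.2.1 n) hu'.2
    exact Subtype.ext (SetLike.ext fun f => ⟨key V W hQ f, key W V hQ.symm f⟩)

omit [Finite (MaximalSpectrum B)] in
/-- Conductor: integral `z, y` with `z` in every maximal ideal of the integral closure. -/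
theorem exists_pow_mul_mem (z y : integralClosure B K)
    (hz : ∀ Q : Ideal (integralClosure B K), Q.IsMaximal → z ∈ Q) :
    ∃ n : ℕ, ∀ m, n ≤ m → ((z : K) ^ m * y) ∈ B := by
  classical
  let C : Subalgebra B (integralClosure B K) := Algebra.adjoin B {z, y}
  have hCfg : (Subalgebra.toSubmodule C).FG :=
    fg_adjoin_of_finite ((Set.finite_singleton y).insert z) fun x _ => Algebra.IsIntegral.isIntegral x
  obtain ⟨S, hS⟩ := hCfg.map ((integralClosure B K).val.toLinearMap)
  obtain ⟨c, hc⟩ := IsLocalization.exist_integer_multiples_of_finset (nonZeroDivisors B) S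
  have hc0 : (c : B) ≠ 0 := nonZeroDivisors.coe_ne_zero c
  have hcC : ∀ w ∈ C, ((c : B) : K) * ((w : integralClosure B K) : K) ∈ B := by
    intro w hw
    have hw' : (w : K) ∈ (Subalgebra.toSubmodule C).map ((integralClosure B K).val.toLinearMap) :=
      ⟨w, hw, rfl⟩
    rw [← hS] at hw'
    refine Submodule.span_induction (p := fun v _ => ((c : B) : K) * v ∈ B) ?_ ?_ ?_ ?_ hw'
    · intro v hv
      obtain ⟨r, hr⟩ := hc v hv
      rw [show ((c : B) : K) * v = (c : B) • v from rfl, ← hr]
      exact r.2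
    · simp [B.zero_mem]
    · intro a b _ _ ha hb; rw [mul_add]; exact B.add_mem ha hb
    · intro r v _ hv
      rw [show r • v = (r : K) * v from rfl, mul_left_comm]
      exact B.mul_mem r.2 hv
  have hzC : z ∈ C := Algebra.subset_adjoin (by simp)
  have hyC : y ∈ C := Algebra.subset_adjoin (by simp)
  haveI : Algebra.IsIntegral C (integralClosure B K) := Algebra.IsIntegral.tower_top B
  haveI : Algebra.IsIntegral B C := Algebra.IsIntegral.of_injective C.val Subtype.val_injective
  have hBC : Function.Injective (algebraMap B C) := fun a b h =>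
    Subtype.ext (congrArg (fun w : C => ((w : integralClosure B K) : K)) h)
  have hrad : (⟨z, hzC⟩ : C) ∈ (Ideal.span {algebraMap B C c}).radical := by
    rw [Ideal.radical_eq_sInf, Ideal.mem_sInf]
    rintro P ⟨hcP, hP⟩
    haveI := hP
    have hPne : P.comap (algebraMap B C) ≠ ⊥ := fun h => hc0 (by
      have : (c : B) ∈ P.comap (algebraMap B C) := hcP (Ideal.mem_span_singleton_self _)
      rwa [h, Ideal.mem_bot] at this)
    obtain ⟨Q, -, hQ, hQP⟩ := Ideal.exists_ideal_over_prime_of_isIntegral (R := C) (S := integralClosure B K)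
      P ⊥ (fun a ha => by
        have : a = 0 := Subtype.ext (Ideal.mem_bot.mp (Ideal.mem_comap.mp ha))
        rw [this]; exact P.zero_mem)
    haveI := isDedekindDomain_integralClosure B
    have hQne : Q ≠ ⊥ := fun h => hPne (by
      rw [← hQP, h, eq_bot_iff]
      intro a ha
      exact Ideal.mem_bot.mpr (Subtype.ext (congrArg (fun w : integralClosure B K => (w : K))
        (Ideal.mem_bot.mp ha) :)))
    rw [← hQP]
    exact hz Q (hQ.isMaximal hQne)
  obtain ⟨n, hn⟩ := hrad
  obtain ⟨d, hd⟩ := Ideal.mem_span_singleton'.mp hn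
  refine ⟨n, fun m hm => ?_⟩
  obtain ⟨k, rfl⟩ := Nat.exists_eq_add_of_le hm
  have hd' : ((d : integralClosure B K) : K) * ((c : B) : K) = (z : K) ^ n :=
    congrArg (fun w : C => ((w : integralClosure B K) : K)) hd
  have := hcC ((d : integralClosure B K) * z ^ k * y) (C.mul_mem (C.mul_mem d.2 (C.pow_mem hzC k)) hyC)
  simp only [Subalgebra.coe_mul, Subalgebra.coe_pow] at this
  rw [pow_add, ← hd']
  convert this using 1
  ring

omit [Finite (MaximalSpectrum B)] in
/-- If `z` is a nonunit in every nontrivial valuation subring containing `B`, some power of `z`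
lies in the Jacobson radical of `B`. -/
theorem exists_pow_inJac (hnf : ¬ IsField B) (z : K)
    (h : ∀ V : ValuationSubring K, B ≤ V.toSubring → V ≠ ⊤ → z ∈ V.nonunits) :
    ∃ n : ℕ, ∀ m, n ≤ m → InJac B (z ^ m) := by
  haveI : IsFractionRing (integralClosure B K) K :=
    IsIntegralClosure.isFractionRing_of_finite_extension B K K (integralClosure B K)
  haveI : IsIntegrallyClosedIn (integralClosure B K).toSubring K := by
    rw [Subring.isIntegrallyClosedIn_iff]
    intro x hx
    have : IsIntegral (integralClosure B K) x := hx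
    exact isIntegral_trans (R := B) x this
  have hzint : z ∈ (integralClosure B K).toSubring := by
    by_contra hz
    obtain ⟨V, hV, hzV⟩ := Subring.exists_le_valuationSubring_of_isIntegrallyClosedIn hz
    have hBV : B ≤ V.toSubring := fun b hb => hV ((integralClosure B K).algebraMap_mem ⟨b, hb⟩)
    by_cases hVt : V = ⊤
    · exact hzV (hVt ▸ ValuationSubring.mem_top z)
    · exact hzV (ValuationSubring.nonunits_subset (h V hBV hVt))
  have hzQ : ∀ Q : Ideal (integralClosure B K), Q.IsMaximal → (⟨z, hzint⟩ : integralClosure B K) ∈ Q := by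
    intro Q hQ
    haveI : (Q.comap (algebraMap B (integralClosure B K))).IsMaximal :=
      Ideal.isMaximal_comap_of_isIntegral_of_isMaximal Q
    obtain ⟨V, hV, hcen⟩ := exists_valuationSubring_center (C := (integralClosure B K).toSubring)
      (P := Q) (hP := hQ)
    have hBV : B ≤ V.toSubring := fun b hb => hV ((integralClosure B K).algebraMap_mem ⟨b, hb⟩)
    refine (hcen ⟨z, hzint⟩).mp (h V hBV ?_)
    intro hVt
    obtain ⟨b, hb, hb0⟩ := Submodule.exists_mem_ne_zero_of_ne_bot
      (fun e : Q.comap (algebraMap B (integralClosure B K)) = ⊥ => hnf (by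
        have := ‹(Q.comap (algebraMap B (integralClosure B K))).IsMaximal›
        rw [e] at this
        exact MulEquiv.isField ((Ideal.Quotient.maximal_ideal_iff_isField_quotient _).mp this)
          (RingEquiv.quotientBot B).symm.toMulEquiv))
    have hbn := (hcen ⟨(b : K), (integralClosure B K).algebraMap_mem b⟩).mpr hb
    rcases V.mem_nonunits_iff_or.mp hbn with h0 | h0
    · exact hb0 (Subtype.ext h0)
    · exact h0 (hVt ▸ ValuationSubring.mem_top _)
  obtain ⟨n, hn⟩ := exists_pow_mul_mem B ⟨z, hzint⟩ 1 hzQ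
  refine ⟨n + 1, fun m hm => ?_⟩
  have hmem : z ^ m ∈ B := by
    have := hn m (by omega)
    simpa using this
  refine ⟨hmem, ?_⟩
  rw [Ideal.jacobson, Ideal.mem_sInf]
  rintro J ⟨-, hJ⟩
  haveI := hJ
  obtain ⟨Q, hQ, hQJ⟩ := Ideal.exists_ideal_over_maximal_of_isIntegral (S := integralClosure B K) J
    (fun a ha => by
      have : a = 0 := Subtype.ext (congrArg (fun w : integralClosure B K => (w : K)) (RingHom.mem_ker.mp ha) :)
      rw [this]; exact J.zero_mem)
  rw [← hQJ, Ideal.mem_comap]
  have : algebraMap B (integralClosure B K) ⟨z ^ m, hmem⟩ = (⟨z, hzint⟩ : integralClosure B K) ^ m :=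
    Subtype.ext (by simp; rfl)
  rw [this]
  exact Ideal.pow_mem_of_mem _ (hzQ Q hQ) m (by omega)

omit B [IsNoetherianRing B] [IsFractionRing B K] [Ring.KrullDimLE 1 B] [Finite (MaximalSpectrum B)]

/-- A subring contained in none of finitely many valuation subrings has an element outside all
of them. -/
theorem exists_notMem_valuationSubrings (A : Subring K) (s : Finset (ValuationSubring K))
    (h : ∀ V ∈ s, ¬ A ≤ V.toSubring) : ∃ x ∈ A, x ≠ 0 ∧ ∀ V ∈ s, x ∉ V := by
  classical
  induction s using Finset.induction_on with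
  | empty => exact ⟨1, A.one_mem, one_ne_zero, by simp⟩
  | @insert W t hWt ih =>
    obtain ⟨x, hxA, hx0, hx⟩ := ih fun V hV => h V (Finset.mem_insert_of_mem hV)
    by_cases hxW : x ∈ W
    swap
    · exact ⟨x, hxA, hx0, fun V hV => (Finset.mem_insert.mp hV).elim (fun e => e ▸ hxW) (hx V)⟩
    obtain ⟨y, hyA, hyW⟩ := SetLike.not_le_iff_exists.mp (h W (Finset.mem_insert_self W t))
    have hbad : ∀ V ∈ t, {m : ℕ | x ^ (m + 1) + y ∈ V}.Subsingleton := by
      intro V hV m hm m' hm'
      by_contra hne
      wlog hlt : m < m' generalizing m m'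
      · exact this hm' hm (Ne.symm hne) (by omega)
      obtain ⟨k, rfl⟩ := Nat.exists_eq_add_of_lt hlt
      have hsub : x ^ (m + 1) * (x ^ (k + 1) - 1) ∈ V := by
        have := V.toSubring.sub_mem hm' hm
        rw [show x ^ (m + k + 1 + 1) + y - (x ^ (m + 1) + y) = x ^ (m + 1) * (x ^ (k + 1) - 1) by ring] at this
        exact this
      have hinv : x⁻¹ ∈ V := (V.mem_or_inv_mem x).resolve_left (hx V hV)
      have h1 : x * (1 - (x⁻¹) ^ (k + 1)) ∈ V := by
        have h2 := V.mul_mem _ _ hsub (V.toSubring.pow_mem hinv (m + k + 1))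
        convert h2 using 1
        have e1 : x ^ m * x⁻¹ ^ m = 1 := by rw [← mul_pow, mul_inv_cancel₀ hx0, one_pow]
        have e2 : x ^ (k + 1) * x⁻¹ ^ (k + 1) = 1 := by rw [← mul_pow, mul_inv_cancel₀ hx0, one_pow]
        rw [show m + k + 1 = m + (k + 1) by omega, pow_add, pow_succ x m]
        linear_combination (-(x ^ m * x⁻¹ ^ m * x)) * e2 + (-(x - x * x⁻¹ ^ (k + 1))) * e1
      obtain ⟨v, hv⟩ : ∃ v : V, (1 - (x⁻¹) ^ (k + 1)) * (v : K) = 1 := by
        have hmemI : (⟨x⁻¹, hinv⟩ : V) ∈ IsLocalRing.maximalIdeal V :=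
          ValuationSubring.coe_mem_nonunits_iff.mp (V.inv_mem_nonunits_iff.mpr (Or.inr (hx V hV)))
        obtain ⟨v, hv⟩ := (IsLocalRing.isUnit_one_sub_self_of_mem_nonunits _
          (Ideal.pow_mem_of_mem _ hmemI (k + 1) (by omega))).exists_right_inv
        exact ⟨v, congrArg Subtype.val hv⟩
      apply hx V hV
      have := V.mul_mem _ _ h1 v.2
      rwa [mul_assoc, hv, mul_one] at this
    obtain ⟨m, hm⟩ := (Set.Finite.biUnion t.finite_toSet fun V hV => (hbad V hV).finite).exists_notMem
    simp only [Set.mem_iUnion, not_exists, Set.mem_setOf_eq] at hm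
    have hW : x ^ (m + 1) + y ∉ W := fun e => hyW (by
      have := W.toSubring.sub_mem e (W.toSubring.pow_mem hxW (m + 1))
      simpa using this)
    refine ⟨x ^ (m + 1) + y, A.add_mem (A.pow_mem hxA _) hyA, fun h0 => hW (h0 ▸ W.zero_mem), ?_⟩
    intro V hV
    rcases Finset.mem_insert.mp hV with rfl | hV
    · exact hW
    · exact hm V hV

/-- An element of `A` whose inverse lies in the radical of each of finitely many semilocal
one-dimensional rings `B i` with `A ⊔ B i = ⊤`. -/
theorem exists_inv_inJac {ι : Type*} [Finite ι] (A : Subring K) (B : ι → Subring K)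
    [∀ i, IsNoetherianRing (B i)] [∀ i, IsFractionRing (B i) K]
    (hdim : ∀ i, ringKrullDim (B i) = 1) (hsl : ∀ i, Finite (MaximalSpectrum (B i)))
    (hgen : ∀ i, A ⊔ B i = ⊤) :
    ∃ x : K, x ∈ A ∧ x ≠ 0 ∧ ∀ i, InJac (B i) x⁻¹ := by
  classical
  haveI := fun i => krullDimLE_one_of_eq (hdim i)
  haveI := hsl
  have hfin : (⋃ i, {V : ValuationSubring K | B i ≤ V.toSubring ∧ V ≠ ⊤}).Finite :=
    Set.finite_iUnion fun i => finite_valuationSubrings (B i) (not_isField_of_dim_one (hdim i))
  obtain ⟨x, hxA, hx0, hx⟩ := exists_notMem_valuationSubrings A hfin.toFinset (by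
    intro V hV hAV
    obtain ⟨i, hBV, hVt⟩ := Set.mem_iUnion.mp (hfin.mem_toFinset.mp hV)
    apply hVt
    rw [eq_top_iff]
    intro f _
    exact sup_le hAV hBV (by rw [hgen i]; exact Subring.mem_top f))
  have hz : ∀ i, ∃ n : ℕ, ∀ m, n ≤ m → InJac (B i) (x⁻¹ ^ m) := fun i =>
    exists_pow_inJac (B i) (not_isField_of_dim_one (hdim i)) _ fun V hBV hVt =>
      V.inv_mem_nonunits_iff.mpr (Or.inr (hx V (hfin.mem_toFinset.mpr (Set.mem_iUnion.mpr ⟨i, hBV, hVt⟩))))
  choose n hn using hz
  haveI := Fintype.ofFinite ι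
  refine ⟨x ^ (Finset.univ.sup n), A.pow_mem hxA _, pow_ne_zero _ hx0, fun i => ?_⟩
  rw [← inv_pow]
  exact hn i _ (Finset.le_sup (Finset.mem_univ i))

end Groth.Agent.KrullAkizuki
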